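import Groth.Agent.Resolve.K376.RatDivD
import Groth.Agent.Fdesc.LocGenTensor
import Groth.Agent.Surf.K455.RR
import Groth.Agent.Surf.K455.Cut
import Groth.Agent.Surf.K458.Decomp
import Groth.Agent.Models.H74.CohSide
import Groth.Agent.Models2.CodimStalk

/-!
# Exceptional curves of rational surface singularities

* `sum_pair`: for classes `a i` of invertible modules on a proper scheme of dimension at most two,
  `χ(∏ a i) = χ(1) + ∑ (χ(a i) - χ(1)) + ∑_{i<j} (a i · a j)`;
* `pt_eq`: an integral closed subscheme is the reduced closure of its generic point;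
* `nodup_of_reduced`: the multiplicities of the components of a reduced effective Cartier divisor are one.
-/

set_option autoImplicit false
universe u
open CategoryTheory CategoryTheory.Limits AlgebraicGeometry TopologicalSpace Opposite

namespace K962.ExcTree

open Groth.Agent Groth.Agent.Ega2 Groth.Agent.Fga.AltSum Groth.Agent.Fga.PicMon K458.Decomp

section Num

variable (k : Type u) [Field k] {X : Scheme.{u}} [X.Over (Spec (CommRingCat.of k))]

/-- The intersection pairing on classes. -/
noncomputable def pr (a b : MC X) : ℤ :=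
  K455.RR.χ k X 1 - K455.RR.χ k X a - K455.RR.χ k X b + K455.RR.χ k X (a * b)

/-- Classes of invertible modules. -/
def Inv (a : MC X) : Prop := ∃ L : X.Modules, PicF.IsInvertible L ∧ mc L = a

theorem inv_mul {a b : MC X} (ha : Inv a) (hb : Inv b) : Inv (a * b) := by
  obtain ⟨L, hL, rfl⟩ := ha
  obtain ⟨M, hM, rfl⟩ := hb
  exact ⟨CohB1.tensorMod L M, Fdesc.LocGen.isInvertible_tensorMod hL hM, mc_tensor L M⟩

theorem inv_one : Inv (1 : MC X) := ⟨_, Fdesc.LocGen.isInvertible_structureModule, rfl⟩

theorem inv_prod {ι : Type*} (s : Finset ι) (a : ι → MC X) (ha : ∀ i ∈ s, Inv (a i)) : Inv (∏ i ∈ s, a i) := by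
  classical
  induction s using Finset.induction_on with
  | empty => rw [Finset.prod_empty]; exact inv_one
  | insert i s his ih =>
    rw [Finset.prod_insert his]
    exact inv_mul (ha i (Finset.mem_insert_self i s)) (ih fun j hj => ha j (Finset.mem_insert_of_mem hj))

variable [IsProper (X ↘ Spec (CommRingCat.of k))] (hdim : topologicalKrullDim X ≤ (2 : ℕ))

include hdim in
theorem pr_mul_left {a b c : MC X} (ha : Inv a) (hb : Inv b) (hc : Inv c) :
    pr k (a * b) c = pr k a c + pr k b c := by
  obtain ⟨A, hA, rfl⟩ := ha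
  obtain ⟨B, hB, rfl⟩ := hb
  obtain ⟨C, hC, rfl⟩ := hc
  have h := K455.RR.third_difference k hdim A B C hA hB hC
  rw [pr, pr, pr]
  linarith

omit [IsProper (X ↘ Spec (CommRingCat.of k))] in
theorem pr_one_left (c : MC X) : pr k 1 c = 0 := by
  rw [pr, one_mul]; ring

include hdim in
theorem pr_prod_left {ι : Type*} (s : Finset ι) (a : ι → MC X) (ha : ∀ i ∈ s, Inv (a i)) {c : MC X} (hc : Inv c) :
    pr k (∏ i ∈ s, a i) c = ∑ i ∈ s, pr k (a i) c := by
  classical
  induction s using Finset.induction_on with
  | empty => rw [Finset.prod_empty, Finset.sum_empty, pr_one_left]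
  | insert i s his ih =>
    rw [Finset.prod_insert his, Finset.sum_insert his, pr_mul_left k hdim (ha i (Finset.mem_insert_self i s))
      (inv_prod s a fun j hj => ha j (Finset.mem_insert_of_mem hj)) hc,
      ih fun j hj => ha j (Finset.mem_insert_of_mem hj)]

include hdim in
/-- The Euler characteristic of a product of invertible classes. -/
theorem sum_pair (n : ℕ) (a : Fin n → MC X) (ha : ∀ i, Inv (a i)) :
    K455.RR.χ k X (∏ i, a i) = K455.RR.χ k X 1 + ∑ i, (K455.RR.χ k X (a i) - K455.RR.χ k X 1) +
      ∑ i : Fin n, ∑ j : Fin n, if i < j then pr k (a i) (a j) else 0 := by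
  induction n with
  | zero => simp
  | succ n ih =>
    have h1 := ih (fun i => a i.castSucc) fun i => ha _
    rw [Fin.prod_univ_castSucc, Fin.sum_univ_castSucc, Fin.sum_univ_castSucc (f := fun i : Fin (n + 1) =>
      ∑ j : Fin (n + 1), if i < j then pr k (a i) (a j) else 0)]
    have h2 : ∀ i : Fin n, (∑ j : Fin (n + 1), if i.castSucc < j then pr k (a i.castSucc) (a j) else 0) =
        (∑ j : Fin n, if i < j then pr k (a i.castSucc) (a j.castSucc) else 0) +
          pr k (a i.castSucc) (a (Fin.last n)) := by
      intro i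
      rw [Fin.sum_univ_castSucc]
      simp [Fin.castSucc_lt_last]
    have h3 : (∑ j : Fin (n + 1), if Fin.last n < j then pr k (a (Fin.last n)) (a j) else 0) = 0 := by
      refine Finset.sum_eq_zero fun j _ => ?_
      rw [if_neg (not_lt.2 (Fin.le_last j))]
    have h4 := pr_prod_left k hdim Finset.univ (fun i : Fin n => a i.castSucc) (fun i _ => ha _) (ha (Fin.last n))
    have h5 : pr k (∏ i : Fin n, a i.castSucc) (a (Fin.last n)) = K455.RR.χ k X 1 -
        K455.RR.χ k X (∏ i : Fin n, a i.castSucc) - K455.RR.χ k X (a (Fin.last n)) +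
        K455.RR.χ k X ((∏ i : Fin n, a i.castSucc) * a (Fin.last n)) := rfl
    rw [h3, Finset.sum_congr rfl fun i _ => h2 i, Finset.sum_add_distrib]
    rw [h4] at h5
    linarith

end Num

section Comp

variable {X : Scheme.{u}}

/-- An integral closed subscheme is the reduced closure of its generic point. -/
theorem pt_eq (I : X.IdealSheafData) [IsIntegral I.subscheme] :
    pt (I.subschemeι (genericPoint I.subscheme)) = I := by
  have h1 := Ega1.ReducedSub.radical_ker_eq I.subschemeι
  rw [Scheme.IdealSheafData.ker_subschemeι] at h1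
  refine Eq.trans ?_ h1
  rw [← Scheme.IdealSheafData.vanishingIdeal_support, pt]
  congr 1
  exact SetLike.coe_injective (ι_genericPoint I)

theorem pt_injective_closure {y z : X} (h : closure ({y} : Set X) = closure {z}) : y = z :=
  (isGenericPoint_closure (x := y)).eq (h ▸ isGenericPoint_closure (x := z))

theorem not_le_pt_mul (y : X) (D : X.IdealSheafData) (hD : BlowUp.IsEffCartierIdeal D) : ¬ D ≤ pt y * D := by
  intro h
  obtain ⟨U, hyU, f, hf, hDU⟩ := hD y
  have h1 : f ∈ (pt y * D).ideal U := h U (by rw [hDU]; exact Ideal.mem_span_singleton_self f)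
  rw [Scheme.IdealSheafData.ideal_mul, Pi.mul_apply, hDU, Ideal.mem_mul_span_singleton] at h1
  obtain ⟨g, hg, hgf⟩ := h1
  have h2 : g = 1 := by
    have h3 : (g - 1) * f = 0 := by rw [sub_mul, hgf, one_mul, sub_self]
    exact sub_eq_zero.1 ((mem_nonZeroDivisors_iff.1 hf).2 _ h3)
  rw [h2] at hg
  have h4 := mem_support_pt y
  rw [SetLike.mem_coe, Scheme.IdealSheafData.mem_support_iff_of_mem hyU] at h4
  have h5 : (pt y).ideal U = ⊤ := (Ideal.eq_top_iff_one _).2 hg
  rw [h5] at h4
  have h6 : y ∉ X.basicOpen (1 : Γ(X, U)) := by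
    have h7 := (Scheme.mem_zeroLocus_iff _ _ _).1 h4
    exact h7 1 trivial
  apply h6
  rw [Scheme.basicOpen_of_isUnit _ isUnit_one]
  exact hyU

theorem isEff_multiset_prod (s : Multiset X) (h : ∀ y ∈ s, BlowUp.IsEffCartierIdeal (pt y)) :
    BlowUp.IsEffCartierIdeal (s.map pt).prod := by
  induction s using Multiset.induction_on with
  | empty => rw [Multiset.map_zero, Multiset.prod_zero]; exact Groth.Agent.Divis.EffCartier.isEff_top
  | cons y s ih =>
    rw [Multiset.map_cons, Multiset.prod_cons]
    exact Groth.Agent.Divis.EffCartier.isEff_mul (h y (Multiset.mem_cons_self y s))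
      (ih fun z hz => h z (Multiset.mem_cons_of_mem hz))

/-- The multiplicities of a reduced divisor are one. -/
theorem nodup_of_reduced (F : Closeds X) (s : Multiset X)
    (hs : Scheme.IdealSheafData.vanishingIdeal F = (s.map pt).prod)
    (h : ∀ y ∈ s, BlowUp.IsEffCartierIdeal (pt y)) : s.Nodup := by
  rw [Multiset.nodup_iff_ne_cons_cons]
  rintro y t rfl
  rw [Multiset.map_cons, Multiset.map_cons, Multiset.prod_cons, Multiset.prod_cons] at hs
  have hE : BlowUp.IsEffCartierIdeal (pt y * (t.map pt).prod) := by
    have := isEff_multiset_prod (y ::ₘ t) fun z hz => h z (Multiset.mem_cons_of_mem hz)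
    rwa [Multiset.map_cons, Multiset.prod_cons] at this
  apply not_le_pt_mul y _ hE
  rw [← hs, ← Scheme.IdealSheafData.le_support_iff_le_vanishingIdeal]
  have h1 : (Scheme.IdealSheafData.vanishingIdeal F).support = F := by
    apply SetLike.coe_injective
    rw [Scheme.IdealSheafData.coe_support_vanishingIdeal]
  have h2 := congrArg Scheme.IdealSheafData.support hs
  rw [h1, Scheme.IdealSheafData.support_mul, Scheme.IdealSheafData.support_mul, ← sup_assoc, sup_idem] at h2
  rw [Scheme.IdealSheafData.support_mul, ← h2]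

theorem exists_mem_of_mem_support (s : Multiset X) (z : X) (hz : z ∈ (s.map pt).prod.support) :
    ∃ y ∈ s, z ∈ closure ({y} : Set X) := by
  induction s using Multiset.induction_on with
  | empty =>
    rw [Multiset.map_zero, Multiset.prod_zero, Scheme.IdealSheafData.one_eq_top,
      Scheme.IdealSheafData.support_top] at hz
    have hz' : z ∈ ((⊥ : Closeds X) : Set X) := hz
    rw [Closeds.coe_bot] at hz'
    exact hz'.elim
  | cons y s ih =>
    rw [Multiset.map_cons, Multiset.prod_cons, Scheme.IdealSheafData.support_mul] at hz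
    rcases hz with hz | hz
    · refine ⟨y, Multiset.mem_cons_self y s, ?_⟩
      rw [← support_pt]
      exact hz
    · obtain ⟨w, hw, hzw⟩ := ih hz
      exact ⟨w, Multiset.mem_cons_of_mem hw, hzw⟩

/-- A reduced effective Cartier divisor is the product of its components. -/
theorem eq_prod [IsNoetherian X] (hf : Factorial X) (F : Closeds X)
    (hF : BlowUp.IsEffCartierIdeal (Scheme.IdealSheafData.vanishingIdeal F)) (n : ℕ)
    (E : Fin n → X.IdealSheafData) (hE : ∀ i, IsIntegral (E i).subscheme)
    (hE1 : ∀ i, ringKrullDim (X.presheaf.stalk ((E i).subschemeι (genericPoint (E i).subscheme))) = 1)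
    (hinj : Function.Injective fun i => ((E i).support : Set X))
    (hEF : ∀ i, ((E i).support : Set X) ⊆ F)
    (hall : ∀ y ∈ F, ringKrullDim (X.presheaf.stalk y) = 1 → ∃ i, closure ({y} : Set X) = (E i).support) :
    Scheme.IdealSheafData.vanishingIdeal F = ∏ i, E i := by
  classical
  have hsup : (Scheme.IdealSheafData.vanishingIdeal F).support = F := by
    apply SetLike.coe_injective
    rw [Scheme.IdealSheafData.coe_support_vanishingIdeal]
  obtain ⟨s, hs, hs'⟩ := exists_multiset hf _ hF
  have hnod : s.Nodup := nodup_of_reduced F s hs fun y hy => isEff_pt hf y (hs' y hy).2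
  let g : Fin n → X := fun i => (E i).subschemeι (genericPoint (E i).subscheme)
  have hg : ∀ i, closure {g i} = ((E i).support : Set X) := fun i => ι_genericPoint (E i)
  have hginj : Function.Injective g := by
    intro i j hij
    apply hinj
    change ((E i).support : Set X) = (E j).support
    rw [← hg, ← hg, hij]
  have hs2 : s = (Finset.univ : Finset (Fin n)).val.map g := by
    rw [hnod.ext ((Finset.nodup _).map hginj)]
    intro y
    rw [Multiset.mem_map]
    constructor
    · intro hy
      obtain ⟨h1, h2⟩ := hs' y hy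
      rw [hsup] at h1
      obtain ⟨i, hi⟩ := hall y h1 h2
      exact ⟨i, Finset.mem_univ i, (pt_injective_closure (hi.trans (hg i).symm)).symm⟩
    · rintro ⟨i, -, rfl⟩
      have h1 : g i ∈ (s.map pt).prod.support := by
        rw [← hs, hsup]
        apply hEF i
        rw [← hg]
        exact subset_closure rfl
      obtain ⟨y, hy, hiy⟩ := exists_mem_of_mem_support s _ h1
      have h2 := (hs' y hy).2
      have h3 : y ⤳ g i := specializes_iff_mem_closure.2 hiy
      have h4 : g i ⤳ y := by
        by_contra h5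
        have h6 := Models2.CodimStalk.codim_lt X h3 h5
        have h7 := hE1 i
        rw [Models2.CodimStalk.coe_codim] at h2 h7
        have h8 : Models2.CodimStalk.codim X y = 1 := by exact_mod_cast h2
        have h9 : Models2.CodimStalk.codim X (g i) = 1 := by exact_mod_cast h7
        omega
      rw [(h4.antisymm h3).eq]
      exact hy
  rw [hs, hs2, Multiset.map_map]
  change ∏ i, pt (g i) = _
  exact Finset.prod_congr rfl fun i _ => pt_eq (E i)

end Comp

section Chi

/-- The first cohomology of closed subschemes over an affine open is zero when `R¹ f_* O = 0`. -/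
theorem h1_closed {X Y : Scheme.{u}} [IsLocallyNoetherian X] (f : Y ⟶ X) [IsProper f]
    (hdim : ∀ x : X, topologicalKrullDim (f.fiber x) ≤ ((1 : ℕ) : WithBot ℕ∞))
    (h : IsZero ((Coh.RpushAb f 1).obj (Coh.toAb (Coh.structureModule Y))))
    (V : X.Opens) (hV : IsAffineOpen V) {W : Scheme.{u}} (i : W ⟶ Y) [IsClosedImmersion i]
    (hi : ∀ w, f (i w) ∈ V) : Subsingleton (Coh.HH W (Coh.structureModule W) 1) := by
  have : IsLocallyNoetherian Y := LocallyOfFiniteType.isLocallyNoetherian f
  obtain ⟨i', hi', -⟩ := K376.RatDivC.exists_lift i (f ⁻¹ᵁ V) hi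
  have h1 : Subsingleton (Coh.HHon Y (Coh.structureModule Y) (f ⁻¹ᵁ V) 1) :=
    Gaga.H883.SerreRel.subsingleton_HHon_of_isZero f _ (CurvesB.UnitCoh.isCoh_structureModule Y).1 1 h V hV
  have h2 : Subsingleton (Coh.HH (f ⁻¹ᵁ V).toScheme (Coh.structureModule (f ⁻¹ᵁ V).toScheme) 1) :=
    CohqA.ChevMain.subsingleton_HH_of_iso (Dcoh.LocalD.structureRestrict (f ⁻¹ᵁ V).ι) 1 h1
  exact K376.RatDivC.subsingleton_closed i' 1 h2 fun M hM => K376.RatDivD.subsingleton_two f hdim V hV M hM

variable (k : Type u) [Field k] [IsAlgClosed k] {Y : Scheme.{u}} [Y.Over (Spec (CommRingCat.of k))]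
  [IsProper (Y ↘ Spec (CommRingCat.of k))] (hdim : topologicalKrullDim Y ≤ (2 : ℕ))

include hdim in
/-- `χ(O_W) = 1` for a reduced connected closed subscheme of dimension at most one with `H¹(O_W) = 0`. -/
theorem chi_eq_one (I : Y.IdealSheafData) [IsReduced I.subscheme] [ConnectedSpace I.subscheme]
    (hd : topologicalKrullDim I.subscheme ≤ (1 : ℕ))
    (h1 : Subsingleton (Coh.HH I.subscheme (Coh.structureModule I.subscheme) 1)) :
    K455.RR.χ k Y 1 - K455.RR.χ k Y (mc (ClSub.idealMod I)) = 1 := by
  let _ : I.subscheme.Over (Spec (CommRingCat.of k)) := ⟨I.subschemeι ≫ (Y ↘ Spec (CommRingCat.of k))⟩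
  have hp : IsProper (I.subscheme ↘ Spec (CommRingCat.of k)) := by
    change IsProper (I.subschemeι ≫ (Y ↘ Spec (CommRingCat.of k)))
    infer_instance
  have hN : IsNoetherian I.subscheme :=
    { toIsLocallyNoetherian := LocallyOfFiniteType.isLocallyNoetherian (I.subscheme ↘ (Spec (CommRingCat.of k)))
      toCompactSpace := QuasiCompact.compactSpace_of_compactSpace (I.subscheme ↘ (Spec (CommRingCat.of k))) }
  have h := K455.Cut.euler_cut_one k hdim I rfl
  rw [K455.RR.χ_one, K455.RR.χ_mc, h, add_sub_cancel_left, FGA.eulerCharLE, Finset.sum_range_succ,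
    Finset.sum_range_succ, Finset.sum_range_one]
  have h0 := Models.H74.CohSide.finrank_HH_zero_eq_one k (Z := I.subscheme)
  have h2 := Fga.EulerLEAdd.subsingleton_HH I.subscheme 1 hd (Coh.structureModule I.subscheme) 2 (by norm_num)
  rw [h0, Module.finrank_zero_of_subsingleton, Module.finrank_zero_of_subsingleton]
  norm_num

end Chi

end K962.ExcTree
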